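import Cfsg.Agent.H240.GThreeC
import Cfsg.Agent.H102.E7V.Pos
import Cfsg.Agent.CharDeep.LinearChar

/-!
# `G₂(3)` is not a subgroup of `E₇(2)` (S5935, task T3)

* `fix` : the fixed space formula for a finite set of elements closed under products, of odd cardinality;
* `main_abs` : the contradiction from the four subgroups `3^{1+2}` (short), `3^{1+2}` (long), `3^3`, `3^4`;
* `not_chevG2_three`.
-/

set_option autoImplicit false
set_option linter.unusedSectionVars false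

namespace Cfsg.Agent.H299.E7V

open Cfsg IsLocalRing Module Cfsg.Agent.H657 Cfsg.Agent.H943.E7V
open Cfsg.Agent.H240.GThree

universe u

/-- **The dimension of the fixed space.** -/
theorem fix {M : Ideal AlgInt} {V : ValuationSubring ℂ} (hM : IsPModular 2 M) (hV : Above M V) {G : Type u} [Group G]
    [Finite G] (σ : Representation (ResidueField V) G (Fin 56 → ResidueField V)) {ι : Type*} [Fintype ι] (f : ι → G)
    (hf : Function.Injective f) (hmul : ∀ i j, ∃ k, f i * f j = f k) (h1 : ∃ i, f i = 1)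
    (hodd : Odd (Fintype.card ι)) :
    ∃ d : ℕ, d ≤ 56 ∧ ∑ i, bc 2 σ (f i) = (d : ℂ) * Fintype.card ι := by
  classical
  have hpow : ∀ i, ∀ n : ℕ, f i ^ n ∈ Set.range f := by
    intro i n
    induction n with
    | zero => rw [pow_zero]; obtain ⟨j, hj⟩ := h1; exact ⟨j, hj⟩
    | succ n ih =>
      obtain ⟨j, hj⟩ := ih
      obtain ⟨k, hk⟩ := hmul j i
      exact ⟨k, by rw [pow_succ, ← hj, hk]⟩
  let K : Subgroup G :=
    { carrier := Set.range f
      mul_mem' := by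
        rintro x y ⟨i, rfl⟩ ⟨j, rfl⟩
        obtain ⟨k, hk⟩ := hmul i j
        exact ⟨k, hk.symm⟩
      one_mem' := h1
      inv_mem' := by
        rintro x ⟨i, rfl⟩
        have h2 : (f i)⁻¹ = f i ^ (orderOf (f i) - 1) := by
          rw [inv_eq_iff_mul_eq_one, ← pow_succ', Nat.sub_add_cancel (orderOf_pos _), pow_orderOf_eq_one]
        rw [h2]
        exact hpow i _ }
  let e : ι ≃ K := Equiv.ofInjective f hf
  have : Fintype K := Fintype.ofEquiv ι e
  have hcard : Fintype.card K = Fintype.card ι := (Fintype.card_congr e).symm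
  obtain ⟨d, hd, he⟩ := Cfsg.Agent.H102.E7V.pos_holds hM hV (σ.comp K.subtype)
    (CharDeep.LinearChar.isIrrCharacter_of_hom (1 : K →* ℂˣ)) (by
    intro g hg
    exfalso
    apply hg
    intro h2
    have h4 := h2.trans (orderOf_dvd_natCard g)
    rw [Nat.card_eq_fintype_card, hcard] at h4
    exact (Nat.not_even_iff_odd.2 hodd) (even_iff_two_dvd.2 h4))
  refine ⟨d, hd, ?_⟩
  rw [← hcard, he]
  simp only [MonoidHom.one_apply, Units.val_one, one_mul, mul_one]
  exact (Fintype.sum_equiv e _ _ fun i => rfl)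

/-- a sum by classes -/
theorem sum_cls {ι : Type*} [Fintype ι] {n : ℕ} (cls : ι → Fin n) (v : Fin n → ℤ) :
    ∑ i, v (cls i) = ∑ k, ((Finset.univ.filter fun i => cls i = k).card : ℤ) * v k := by
  classical
  rw [← Finset.sum_fiberwise Finset.univ cls (fun i => v (cls i))]
  refine Finset.sum_congr rfl fun k _ => ?_
  rw [Finset.sum_congr rfl (g := fun _ => v k) (fun i hi => by rw [(Finset.mem_filter.1 hi).2]), Finset.sum_const,
    nsmul_eq_mul]

/-- the classes in the group `{NF (b, 0, c, d, 0, 0)}` -/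
def cls1 (u : ZMod 3 × ZMod 3 × ZMod 3) : Fin 6 :=
  if u.1 = 0 ∧ u.2.1 = 0 ∧ u.2.2 = 0 then 0 else
    if u.1 = 0 ∨ u.2.1 = 0 then 1 else
      if u.1 = 1 ∧ u.2.1 = 1 then 2 else
        if u.1 = 1 then 3 else
          if u.2.1 = 1 then 4 else 5

theorem cls1_card : ∀ k, (Finset.univ.filter fun i => cls1 i = k).card = ![1, 14, 3, 3, 3, 3] k := by
  decide +kernel

/-- the classes in `3^3` -/
def cls3 (u : ZMod 3 × ZMod 3 × ZMod 3) : Fin 4 :=
  if u.1 = 0 ∧ u.2.1 = 0 ∧ u.2.2 = 0 then 0 else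
    if u.1 = 0 then 1 else
      if u.2.1 = 0 ∧ u.2.2 = 0 then 2 else 3

theorem cls3_card : ∀ k, (Finset.univ.filter fun i => cls3 i = k).card = ![1, 8, 2, 16] k := by
  decide +kernel

/-- the classes in `3^4` -/
def cls4 (u : ZMod 3 × ZMod 3 × ZMod 3 × ZMod 3) : Fin 6 :=
  if u.1 = 0 ∧ u.2.1 = 0 then
    if u.2.2.1 = 0 ∧ u.2.2.2 = 0 then 0 else 1
  else
    if u.2.2.1 = 0 ∧ u.2.2.2 = 0 then 2 else
      if u.1 = 0 ∨ u.2.2.1 = 0 then 3 else
        if u.1 * u.2.2.1 = 1 then 4 else 5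

theorem cls4_card : ∀ k, (Finset.univ.filter fun i => cls4 i = k).card = ![1, 8, 8, 28, 18, 18] k := by
  decide +kernel

/-- arithmetic for the groups `3^{1+2}` -/
theorem arith1 {A D1 D2 D3 D4 : ℤ} {d : ℕ} (hA : A = 2 ∨ A = 20 ∨ A = -7 ∨ A = -25)
    (h1 : D1 = 2 ∨ D1 = 20 ∨ D1 = -7 ∨ D1 = -25) (h2 : D2 = 2 ∨ D2 = 20 ∨ D2 = -7 ∨ D2 = -25)
    (h3 : D3 = 2 ∨ D3 = 20 ∨ D3 = -7 ∨ D3 = -25) (h4 : D4 = 2 ∨ D4 = 20 ∨ D4 = -7 ∨ D4 = -25)
    (h : 56 + 14 * A + 3 * D1 + 3 * D2 + 3 * D3 + 3 * D4 = d * 27) : A = 2 := by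
  have key : ∀ D : ℤ, (D = 2 ∨ D = 20 ∨ D = -7 ∨ D = -25) → ∃ m : ℤ, D = 2 + 9 * m ∧ m ≤ 2 := by
    rintro D (rfl | rfl | rfl | rfl)
    · exact ⟨0, by norm_num⟩
    · exact ⟨2, by norm_num⟩
    · exact ⟨-1, by norm_num⟩
    · exact ⟨-3, by norm_num⟩
  obtain ⟨m1, k1, l1⟩ := key D1 h1
  obtain ⟨m2, k2, l2⟩ := key D2 h2
  obtain ⟨m3, k3, l3⟩ := key D3 h3
  obtain ⟨m4, k4, l4⟩ := key D4 h4
  clear h1 h2 h3 h4
  subst k1 k2 k3 k4
  rcases hA with rfl | rfl | rfl | rfl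
  · rfl
  · omega
  · omega
  · omega

theorem arith3 {C : ℤ} {d : ℕ} (hC : C = 2 ∨ C = 20 ∨ C = -7 ∨ C = -25)
    (h : 56 + 8 * 2 + 2 * 2 + 16 * C = d * 27) : C = 2 := by
  omega

theorem arith4 {E1 E2 : ℤ} {d : ℕ} (h1 : E1 = 2 ∨ E1 = 20 ∨ E1 = -7 ∨ E1 = -25)
    (h2 : E2 = 2 ∨ E2 = 20 ∨ E2 = -7 ∨ E2 = -25)
    (h : 56 + 8 * 2 + 8 * 2 + 28 * 2 + 18 * E1 + 18 * E2 = d * 81) : False := by
  omega

section abs

variable {G : Type*} [Group G] {X : ZMod 12 → ZMod 3 → G} (H : Sys X)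

include H

theorem short_five (b d : ZMod 3) (hb : b ≠ 0) : IsConj (NF X (b, 0, 0, d, 0, 0)) (NV X 0 1 0 0) := by
  obtain ⟨n, hn⟩ := H.ref5
  obtain ⟨e0, h0, k0⟩ := hn 0
  obtain ⟨e2, h2, k2⟩ := hn 2
  rw [show (4 : ZMod 12) - 0 = 4 by decide] at k0
  rw [show (4 : ZMod 12) - 2 = 2 by decide] at k2
  have h3 : IsConj (NF X (b, 0, 0, d, 0, 0)) (NV X (e0 * b) (e2 * d) 0 0) := by
    refine isConj_of (g := n) ?_
    show n * (X 0 b * X 5 0 * NV X 0 d 0 0) = _
    unfold NV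
    rw [H.zero, H.zero, H.zero, H.zero, mul_one, mul_one, mul_one, mul_one, mul_one, one_mul]
    calc n * (X 0 b * X 2 d) = (n * X 0 b) * X 2 d := by group
      _ = X 4 (e0 * b) * (n * X 2 d) := by rw [k0]; group
      _ = _ := by rw [k2]; group
  exact h3.trans (fuse_one H _ _ (Or.inl (mul_ne_zero h0 hb)))

theorem long_zero (a f : ZMod 3) (ha : a ≠ 0) : IsConj (NF X (0, a, 0, 0, 0, f)) (NV X 0 0 0 1) := by
  obtain ⟨n, hn⟩ := H.ref0
  obtain ⟨e5, h5, k5⟩ := hn 5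
  obtain ⟨e3, h3, k3⟩ := hn 3
  rw [show (6 : ZMod 12) - 5 = 1 by decide] at k5
  rw [show (6 : ZMod 12) - 3 = 3 by decide] at k3
  have h4 : IsConj (NF X (0, a, 0, 0, 0, f)) (NV X 0 0 (e5 * a) (e3 * f)) := by
    refine isConj_of (g := n) ?_
    show n * (X 0 0 * X 5 a * NV X 0 0 0 f) = _
    unfold NV
    rw [H.zero, H.zero, H.zero, H.zero, one_mul, one_mul, one_mul, one_mul]
    calc n * (X 5 a * X 3 f) = (n * X 5 a) * X 3 f := by group
      _ = X 1 (e5 * a) * (n * X 3 f) := by rw [k5]; group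
      _ = _ := by rw [k3]; group
  exact h4.trans (fuse_two H _ _ (Or.inl (mul_ne_zero h5 ha)))

theorem orb_short (b c d : ZMod 3) (hc : c ≠ 0) : IsConj (NF X (b, 0, c, d, 0, 0)) (NF X (b, 0, c, 0, 0, 0)) := by
  refine isConj_of (g := NF X (-(d * c), 0, 0, 0, 0, 0)) ?_
  rw [NF_mul H, NF_mul H]
  congr 1
  simp only [mul, Prod.mk.injEq]
  have h := sq_one c hc
  refine ⟨by first | trivial | ring, trivial, by first | trivial | ring, ?_, by first | trivial | ring, by first | trivial | ring⟩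
  linear_combination -d * h

theorem orb_long (a e f : ZMod 3) (he : e ≠ 0) : IsConj (NF X (0, a, 0, 0, e, f)) (NF X (0, a, 0, 0, e, 0)) := by
  refine isConj_of (g := NF X (0, -(f * e), 0, 0, 0, 0)) ?_
  rw [NF_mul H, NF_mul H]
  congr 1
  simp only [mul, Prod.mk.injEq]
  have h := sq_one e he
  refine ⟨by first | trivial | ring, by first | trivial | ring, by first | trivial | ring, by first | trivial | ring, by first | trivial | ring, ?_⟩
  linear_combination -f * h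

/-- **The contradiction.** -/
theorem main_abs (hinj : Function.Injective (NF X)) (t : G → ℤ) (h1 : t 1 = 56)
    (h3 : ∀ g : G, g ^ 3 = 1 → g ≠ 1 → t g = 2 ∨ t g = 20 ∨ t g = -7 ∨ t g = -25)
    (hc : ∀ x y : G, IsConj x y → t x = t y)
    (hfix : ∀ (ι : Type) [Fintype ι] (f : ι → G), Function.Injective f → (∀ i j, ∃ k, f i * f j = f k) →
      (∃ i, f i = 1) → (∀ i, f i ^ 3 = 1) → Odd (Fintype.card ι) → ∃ d : ℕ, ∑ i, t (f i) = d * Fintype.card ι) :
    False := by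
  have hone : NF X (0, 0, 0, 0, 0, 0) = 1 := NF_zero H
  have hne : ∀ u : T6, u ≠ 0 → NF X u ≠ 1 := fun u hu h => hu (hinj (h.trans (NF_zero H).symm))
  have hcube : ∀ u : T6, mul (mul u u) u = 0 → NF X u ^ 3 = 1 := by
    intro u hu
    rw [pow_succ, pow_two, NF_mul H, NF_mul H, hu, NF_zero H]
  have hv : ∀ u : T6, mul (mul u u) u = 0 → u ≠ 0 →
      t (NF X u) = 2 ∨ t (NF X u) = 20 ∨ t (NF X u) = -7 ∨ t (NF X u) = -25 :=
    fun u hu h0 => h3 _ (hcube u hu) (hne u h0)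
  have c1 : ∀ b c d : ZMod 3, mul (mul (b, 0, c, d, 0, 0) (b, 0, c, d, 0, 0)) (b, 0, c, d, 0, 0) = 0 := by
    decide +kernel
  have c2 : ∀ a e f : ZMod 3, mul (mul (0, a, 0, 0, e, f) (0, a, 0, 0, e, f)) (0, a, 0, 0, e, f) = 0 := by
    decide +kernel
  have c3 : ∀ c d e f : ZMod 3, mul (mul (0, 0, c, d, e, f) (0, 0, c, d, e, f)) (0, 0, c, d, e, f) = 0 := by
    decide +kernel
  -- the class of short root elements
  have hA : t (NV X 0 1 0 0) = 2 := by
    obtain ⟨d, hd⟩ := hfix (ZMod 3 × ZMod 3 × ZMod 3) (fun u => NF X (u.1, 0, u.2.1, u.2.2, 0, 0)) (by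
      rintro ⟨a, b, c⟩ ⟨a', b', c'⟩ h
      simpa using hinj h) (by
      rintro ⟨a, b, c⟩ ⟨a', b', c'⟩
      refine ⟨(a + a', b + b', c + c' - a' * b), ?_⟩
      show NF X _ * NF X _ = NF X _
      rw [NF_mul H]
      congr 1
      simp only [mul, Prod.mk.injEq]
      refine ⟨?_, ?_, ?_, ?_, ?_, ?_⟩ <;> first | trivial | ring) ⟨(0, 0, 0), hone⟩
      (fun u => hcube _ (c1 _ _ _)) (by decide)
    have h4 : ∀ u : ZMod 3 × ZMod 3 × ZMod 3, t (NF X (u.1, 0, u.2.1, u.2.2, 0, 0)) =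
        (![56, t (NV X 0 1 0 0), t (NF X (1, 0, 1, 0, 0, 0)), t (NF X (1, 0, 2, 0, 0, 0)),
          t (NF X (2, 0, 1, 0, 0, 0)), t (NF X (2, 0, 2, 0, 0, 0))] : Fin 6 → ℤ) (cls1 u) := by
      rintro ⟨b, c, d⟩
      unfold cls1
      simp only
      split_ifs with k1 k2 k3 k4 k5
      · obtain ⟨rfl, rfl, rfl⟩ := k1
        show t (NF X (0, 0, 0, 0, 0, 0)) = 56
        rw [hone, h1]
      · show _ = t (NV X 0 1 0 0)
        by_cases hb : b = 0
        · subst hb
          rw [NF_V H]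
          refine hc _ _ (fuse_one H c d ?_)
          by_contra h
          rw [not_or, not_not, not_not] at h
          exact k1 ⟨rfl, h⟩
        · have hc0 : c = 0 := k2.resolve_left hb
          subst hc0
          exact hc _ _ (short_five H b d hb)
      · obtain ⟨rfl, rfl⟩ := k3
        exact hc _ _ (orb_short H 1 1 d (by decide))
      · rw [not_or] at k2
        have hb : b = 1 := k4
        subst hb
        have hc2 : ∀ x : ZMod 3, x ≠ 0 → x ≠ 1 → x = 2 := by decide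
        have : c = 2 := hc2 c k2.2 (fun h => k3 ⟨rfl, h⟩)
        subst this
        exact hc _ _ (orb_short H 1 2 d (by decide))
      · rw [not_or] at k2
        have hc2 : ∀ x : ZMod 3, x ≠ 0 → x ≠ 1 → x = 2 := by decide
        have hb : b = 2 := hc2 b k2.1 k4
        have hcc : c = 1 := k5
        subst hb hcc
        exact hc _ _ (orb_short H 2 1 d (by decide))
      · rw [not_or] at k2
        have hc2 : ∀ x : ZMod 3, x ≠ 0 → x ≠ 1 → x = 2 := by decide
        have hb : b = 2 := hc2 b k2.1 k4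
        have hcc : c = 2 := hc2 c k2.2 k5
        subst hb hcc
        exact hc _ _ (orb_short H 2 2 d (by decide))
    rw [Finset.sum_congr rfl fun u _ => h4 u, sum_cls, Finset.sum_congr rfl fun k _ => by rw [cls1_card k]] at hd
    have h5 : Fintype.card (ZMod 3 × ZMod 3 × ZMod 3) = 27 := by decide
    rw [h5] at hd
    simp only [Fin.sum_univ_succ, Fin.sum_univ_zero] at hd
    have h6 : t (NV X 0 1 0 0) = 2 ∨ t (NV X 0 1 0 0) = 20 ∨ t (NV X 0 1 0 0) = -7 ∨ t (NV X 0 1 0 0) = -25 := by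
      rw [← NF_V H]
      exact hv _ (c3 _ _ _ _) (by decide)
    refine arith1 (d := d) h6 (hv (1, 0, 1, 0, 0, 0) (c1 _ _ _) (by decide)) (hv (1, 0, 2, 0, 0, 0) (c1 _ _ _) (by decide))
      (hv (2, 0, 1, 0, 0, 0) (c1 _ _ _) (by decide)) (hv (2, 0, 2, 0, 0, 0) (c1 _ _ _) (by decide)) ?_
    simp at hd
    linarith
  -- the class of long root elements
  have hB : t (NV X 0 0 0 1) = 2 := by
    obtain ⟨d, hd⟩ := hfix (ZMod 3 × ZMod 3 × ZMod 3) (fun u => NF X (0, u.1, 0, 0, u.2.1, u.2.2)) (by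
      rintro ⟨a, b, c⟩ ⟨a', b', c'⟩ h
      simpa using hinj h) (by
      rintro ⟨a, b, c⟩ ⟨a', b', c'⟩
      refine ⟨(a + a', b + b', c + c' - a' * b), ?_⟩
      show NF X _ * NF X _ = NF X _
      rw [NF_mul H]
      congr 1
      simp only [mul, Prod.mk.injEq]
      refine ⟨?_, ?_, ?_, ?_, ?_, ?_⟩ <;> first | trivial | ring) ⟨(0, 0, 0), hone⟩
      (fun u => hcube _ (c2 _ _ _)) (by decide)
    have h4 : ∀ u : ZMod 3 × ZMod 3 × ZMod 3, t (NF X (0, u.1, 0, 0, u.2.1, u.2.2)) =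
        (![56, t (NV X 0 0 0 1), t (NF X (0, 1, 0, 0, 1, 0)), t (NF X (0, 1, 0, 0, 2, 0)),
          t (NF X (0, 2, 0, 0, 1, 0)), t (NF X (0, 2, 0, 0, 2, 0))] : Fin 6 → ℤ) (cls1 u) := by
      rintro ⟨b, c, d⟩
      unfold cls1
      simp only
      split_ifs with k1 k2 k3 k4 k5
      · obtain ⟨rfl, rfl, rfl⟩ := k1
        show t (NF X (0, 0, 0, 0, 0, 0)) = 56
        rw [hone, h1]
      · show _ = t (NV X 0 0 0 1)
        by_cases hb : b = 0
        · subst hb
          rw [NF_V H]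
          refine hc _ _ (fuse_two H c d ?_)
          by_contra h
          rw [not_or, not_not, not_not] at h
          exact k1 ⟨rfl, h⟩
        · have hc0 : c = 0 := k2.resolve_left hb
          subst hc0
          exact hc _ _ (long_zero H b d hb)
      · obtain ⟨rfl, rfl⟩ := k3
        exact hc _ _ (orb_long H 1 1 d (by decide))
      · rw [not_or] at k2
        have hb : b = 1 := k4
        subst hb
        have hc2 : ∀ x : ZMod 3, x ≠ 0 → x ≠ 1 → x = 2 := by decide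
        have : c = 2 := hc2 c k2.2 (fun h => k3 ⟨rfl, h⟩)
        subst this
        exact hc _ _ (orb_long H 1 2 d (by decide))
      · rw [not_or] at k2
        have hc2 : ∀ x : ZMod 3, x ≠ 0 → x ≠ 1 → x = 2 := by decide
        have hb : b = 2 := hc2 b k2.1 k4
        have hcc : c = 1 := k5
        subst hb hcc
        exact hc _ _ (orb_long H 2 1 d (by decide))
      · rw [not_or] at k2
        have hc2 : ∀ x : ZMod 3, x ≠ 0 → x ≠ 1 → x = 2 := by decide
        have hb : b = 2 := hc2 b k2.1 k4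
        have hcc : c = 2 := hc2 c k2.2 k5
        subst hb hcc
        exact hc _ _ (orb_long H 2 2 d (by decide))
    rw [Finset.sum_congr rfl fun u _ => h4 u, sum_cls, Finset.sum_congr rfl fun k _ => by rw [cls1_card k]] at hd
    have h5 : Fintype.card (ZMod 3 × ZMod 3 × ZMod 3) = 27 := by decide
    rw [h5] at hd
    simp only [Fin.sum_univ_succ, Fin.sum_univ_zero] at hd
    have h6 : t (NV X 0 0 0 1) = 2 ∨ t (NV X 0 0 0 1) = 20 ∨ t (NV X 0 0 0 1) = -7 ∨ t (NV X 0 0 0 1) = -25 := by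
      rw [← NF_V H]
      exact hv _ (c3 _ _ _ _) (by decide)
    refine arith1 (d := d) h6 (hv (0, 1, 0, 0, 1, 0) (c2 _ _ _) (by decide)) (hv (0, 1, 0, 0, 2, 0) (c2 _ _ _) (by decide))
      (hv (0, 2, 0, 0, 1, 0) (c2 _ _ _) (by decide)) (hv (0, 2, 0, 0, 2, 0) (c2 _ _ _) (by decide)) ?_
    simp at hd
    linarith
  -- the class of the products
  have hC : t (NV X 0 1 0 1) = 2 := by
    obtain ⟨d, hd⟩ := hfix (ZMod 3 × ZMod 3 × ZMod 3) (fun u => NF X (0, 0, 0, u.1, u.2.1, u.2.2)) (by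
      rintro ⟨a, b, c⟩ ⟨a', b', c'⟩ h
      simpa using hinj h) (by
      rintro ⟨a, b, c⟩ ⟨a', b', c'⟩
      refine ⟨(a + a', b + b', c + c'), ?_⟩
      show NF X _ * NF X _ = NF X _
      rw [NF_mul H]
      congr 1
      simp only [mul, Prod.mk.injEq]
      refine ⟨?_, ?_, ?_, ?_, ?_, ?_⟩ <;> first | trivial | ring) ⟨(0, 0, 0), hone⟩
      (fun u => hcube _ (c3 _ _ _ _)) (by decide)
    have h4 : ∀ u : ZMod 3 × ZMod 3 × ZMod 3, t (NF X (0, 0, 0, u.1, u.2.1, u.2.2)) =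
        (![56, 2, 2, t (NV X 0 1 0 1)] : Fin 4 → ℤ) (cls3 u) := by
      rintro ⟨b, c, d⟩
      unfold cls3
      simp only
      split_ifs with k1 k2 k3
      · obtain ⟨rfl, rfl, rfl⟩ := k1
        show t (NF X (0, 0, 0, 0, 0, 0)) = 56
        rw [hone, h1]
      · show _ = 2
        subst k2
        rw [NF_V H, ← hB]
        refine hc _ _ (fuse_two H c d ?_)
        by_contra h
        rw [not_or, not_not, not_not] at h
        exact k1 ⟨rfl, h⟩
      · show _ = 2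
        obtain ⟨rfl, rfl⟩ := k3
        rw [NF_V H, ← hA]
        exact hc _ _ (fuse_one H 0 b (Or.inr k2))
      · rw [NF_V H]
        refine hc _ _ (fuse_three H 0 b c d (Or.inr k2) ?_ (Or.inl rfl))
        by_contra h
        rw [not_or, not_not, not_not] at h
        exact k3 h
    rw [Finset.sum_congr rfl fun u _ => h4 u, sum_cls, Finset.sum_congr rfl fun k _ => by rw [cls3_card k]] at hd
    have h5 : Fintype.card (ZMod 3 × ZMod 3 × ZMod 3) = 27 := by decide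
    rw [h5] at hd
    simp only [Fin.sum_univ_succ, Fin.sum_univ_zero] at hd
    have h6 : t (NV X 0 1 0 1) = 2 ∨ t (NV X 0 1 0 1) = 20 ∨ t (NV X 0 1 0 1) = -7 ∨ t (NV X 0 1 0 1) = -25 := by
      rw [← NF_V H]
      exact hv _ (c3 _ _ _ _) (by decide)
    refine arith3 (d := d) h6 ?_
    simp at hd
    linarith
  obtain ⟨d, hd⟩ := hfix (ZMod 3 × ZMod 3 × ZMod 3 × ZMod 3) (fun u => NF X (0, 0, u.1, u.2.1, u.2.2.1, u.2.2.2)) (by
    rintro ⟨a, b, c, d⟩ ⟨a', b', c', d'⟩ h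
    simpa using hinj h) (by
    rintro ⟨a, b, c, d⟩ ⟨a', b', c', d'⟩
    refine ⟨(a + a', b + b', c + c', d + d'), ?_⟩
    show NF X _ * NF X _ = NF X _
    rw [NF_mul H]
    congr 1
    simp only [mul, Prod.mk.injEq]
    refine ⟨?_, ?_, ?_, ?_, ?_, ?_⟩ <;> first | trivial | ring) ⟨(0, 0, 0, 0), hone⟩
    (fun u => hcube _ (c3 _ _ _ _)) (by decide)
  have h4 : ∀ u : ZMod 3 × ZMod 3 × ZMod 3 × ZMod 3, t (NF X (0, 0, u.1, u.2.1, u.2.2.1, u.2.2.2)) =
      (![56, 2, 2, 2, t (NV X 1 0 1 0), t (NV X 1 0 (-1) 0)] : Fin 6 → ℤ) (cls4 u) := by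
    rintro ⟨a, b, c, d⟩
    unfold cls4
    simp only
    rw [NF_V H]
    split_ifs with k1 k2 k3 k4 k5
    · obtain ⟨rfl, rfl⟩ := k1
      obtain ⟨rfl, rfl⟩ := k2
      show t (NV X 0 0 0 0) = 56
      rw [NV_zero H, h1]
    · show _ = 2
      obtain ⟨rfl, rfl⟩ := k1
      rw [← hB]
      refine hc _ _ (fuse_two H c d ?_)
      by_contra h
      rw [not_or, not_not, not_not] at h
      exact k2 h
    · show _ = 2
      obtain ⟨rfl, rfl⟩ := k3
      rw [← hA]
      refine hc _ _ (fuse_one H a b ?_)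
      by_contra h
      rw [not_or, not_not, not_not] at h
      exact k1 h
    · show _ = 2
      rw [← hC]
      rw [not_and_or] at k1 k3
      exact hc _ _ (fuse_three H a b c d k1 k3 k4)
    · rw [not_or] at k4
      show _ = t (NV X 1 0 1 0)
      have := hc _ _ (fuse_four H a b c d k4.1 k4.2)
      rwa [k5] at this
    · rw [not_or] at k4
      show _ = t (NV X 1 0 (-1) 0)
      have h5 : a * c = -1 := by
        have h2 : ∀ x : ZMod 3, x ≠ 0 → x ≠ 1 → x = -1 := by decide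
        exact h2 _ (mul_ne_zero k4.1 k4.2) k5
      have := hc _ _ (fuse_four H a b c d k4.1 k4.2)
      rwa [h5] at this
  rw [Finset.sum_congr rfl fun u _ => h4 u, sum_cls, Finset.sum_congr rfl fun k _ => by rw [cls4_card k]] at hd
  have h5 : Fintype.card (ZMod 3 × ZMod 3 × ZMod 3 × ZMod 3) = 81 := by decide
  rw [h5] at hd
  simp only [Fin.sum_univ_succ, Fin.sum_univ_zero] at hd
  refine arith4 (d := d) (E1 := t (NV X 1 0 1 0)) (E2 := t (NV X 1 0 (-1) 0)) ?_ ?_ ?_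
  · rw [← NF_V H]
    exact hv _ (c3 _ _ _ _) (by decide)
  · rw [← NF_V H]
    exact hv _ (c3 _ _ _ _) (by decide)
  · simp at hd
    linarith

end abs

open Cfsg.Agent.H120.GTwo in
/-- **`G₂(3)` is not admissible** (any field with three elements). -/
theorem not_chevG2 {F : Type u} [Field F] [Fintype F] (hF : Fintype.card F = 3) :
    ¬ Adm ↥(Cfsg.Lie.chevG2.group F) := by
  classical
  rintro ⟨M, V, hM, hV, σ, HV⟩
  have hchar : CharP F 3 := by
    obtain ⟨p, hp⟩ := CharP.exists F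
    obtain ⟨n, hprime, hn⟩ := FiniteField.card F p
    rw [hF] at hn
    have h2 : p ∣ 3 := hn ▸ dvd_pow_self p n.ne_zero
    have h3 : p = 3 := (Nat.prime_dvd_prime_iff_eq hprime Nat.prime_three).1 h2
    rw [← h3]
    exact hp
  have ι : ZMod 3 ≃+* F := ZMod.ringEquiv F hF
  have H := sys ι
  obtain ⟨-, -, hinj⟩ := exists_sylow hF ι
  have hfin : Finite ↥(Cfsg.Lie.chevG2.group F) := inferInstance
  have hval : ∀ g : ↥(Cfsg.Lie.chevG2.group F), ∃ m : ℤ, (g = 1 → m = 56) ∧ (g ^ 3 = 1 → bc 2 σ g = m) ∧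
      (g ^ 3 = 1 → g ≠ 1 → m = 2 ∨ m = 20 ∨ m = -7 ∨ m = -25) := by
    intro g
    by_cases h1 : g = 1
    · subst h1
      exact ⟨56, fun _ => rfl, fun _ => by rw [HV.one]; norm_num, fun _ h => absurd rfl h⟩
    · by_cases h3 : g ^ 3 = 1
      · have ho : orderOf g = 3 := orderOf_eq_prime h3 h1
        rcases HV.three g ho with h | h | h | h
        · exact ⟨2, fun h' => absurd h' h1, fun _ => by rw [h]; norm_num, fun _ _ => Or.inl rfl⟩
        · exact ⟨20, fun h' => absurd h' h1, fun _ => by rw [h]; norm_num, fun _ _ => Or.inr (Or.inl rfl)⟩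
        · exact ⟨-7, fun h' => absurd h' h1, fun _ => by rw [h]; norm_num, fun _ _ => Or.inr (Or.inr (Or.inl rfl))⟩
        · exact ⟨-25, fun h' => absurd h' h1, fun _ => by rw [h]; norm_num, fun _ _ => Or.inr (Or.inr (Or.inr rfl))⟩
      · exact ⟨0, fun h' => absurd h' h1, fun h' => absurd h' h3, fun h' => absurd h' h3⟩
  -- a class function
  let t : ↥(Cfsg.Lie.chevG2.group F) → ℤ := fun g => if g ^ 3 = 1 then (hval g).choose else 0
  have ht : ∀ g, g ^ 3 = 1 → t g = (hval g).choose := fun g hg => if_pos hg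
  have htb : ∀ g, g ^ 3 = 1 → bc 2 σ g = t g := fun g hg => by
    rw [ht g hg]
    exact (hval g).choose_spec.2.1 hg
  refine main_abs H hinj t ?_ ?_ ?_ ?_
  · rw [ht 1 (one_pow 3)]
    exact (hval 1).choose_spec.1 rfl
  · intro g hg h1
    rw [ht g hg]
    exact (hval g).choose_spec.2.2 hg h1
  · intro x y hxy
    obtain ⟨c, rfl⟩ := isConj_iff.1 hxy
    have h1 : (c * x * c⁻¹) ^ 3 = c * x ^ 3 * c⁻¹ := conj_pow
    by_cases hx : x ^ 3 = 1
    · have hy : (c * x * c⁻¹) ^ 3 = 1 := by rw [h1, hx, mul_one, mul_inv_cancel]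
      have h2 : (t x : ℂ) = t (c * x * c⁻¹) := by
        rw [← htb _ hx, ← htb _ hy, bc_conj]
      exact_mod_cast h2
    · have hy : (c * x * c⁻¹) ^ 3 ≠ 1 := by
        intro h
        apply hx
        rw [h1, mul_inv_eq_one] at h
        exact mul_left_cancel (h.trans (mul_one c).symm)
      show (if x ^ 3 = 1 then _ else (0 : ℤ)) = if (c * x * c⁻¹) ^ 3 = 1 then _ else (0 : ℤ)
      rw [if_neg hx, if_neg hy]
  · intro κ _ f hf hmul h1 h3 hodd
    obtain ⟨d, -, hd⟩ := fix hM hV σ f hf hmul h1 hodd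
    refine ⟨d, ?_⟩
    rw [Finset.sum_congr rfl fun i _ => htb (f i) (h3 i)] at hd
    exact_mod_cast hd

/-- **`G₂(3)` is not admissible.** -/
theorem not_chevG2_three : ¬ Adm ↥(Cfsg.Lie.chevG2.group (ZMod 3)) := not_chevG2 (ZMod.card 3)

end Cfsg.Agent.H299.E7V
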